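import Groth.Prelude.Def_CohCx
import Groth.Agent.Lib.GrothSS.CechPsh
import Groth.Agent.Lib.SheafCoh.Derived
import Groth.Agent.Lib.SheafCoh.DerivedComp
import Groth.Agent.Lib.SheafCoh.PshExt
import Groth.Prelude.Def_CechEdge

/-! # Čech cohomology of a presheaf as Ext out of the sieve -/

set_option autoImplicit false

universe u

open CategoryTheory CategoryTheory.Limits Opposite

namespace GrothLib.CechSieve25

open GrothLib

attribute [local instance] SheafCoh.enoughInjectivesPsh SheafCoh.isGrothendieckAbelianPsh SheafCoh.hasExtPsh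

variable {C : Type u} [SmallCategory C] [HasPullbacks C] {X : C} {ι : Type u} (Y : ι → Over X)

/-- The sieve generated by the family. -/
abbrev Rs : Sieve X := Sieve.ofArrows (fun i => (Y i).left) (fun i => (Y i).hom)

/-- The free presheaf on the sieve. -/
noncomputable abbrev A₀ : Cᵒᵖ ⥤ AddCommGrpCat.{u} := (Rs Y).functor ⋙ AddCommGrpCat.free.{u}

theorem mem_hom {n : ℕ} (a : Fin (n + 1) → ι) : Rs Y (Cech.obj Y a).hom := by
  rw [← Over.w (Pi.π (fun k => Y (a k)) 0)]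
  exact (Rs Y).downward_closed (Sieve.ofArrows_mk (fun i => (Y i).left) (fun i => (Y i).hom) (a 0)) _

/-- The value of a morphism out of the free presheaf on a member. -/
noncomputable def val (P : Cᵒᵖ ⥤ AddCommGrpCat.{u}) (φ : A₀ Y ⟶ P) {V : C} (f : V ⟶ X) (hf : Rs Y f) :
    P.obj (op V) :=
  φ.app (op V) (FreeAbelianGroup.of (⟨f, hf⟩ : (Rs Y).functor.obj (op V)))

theorem val_map {P : Cᵒᵖ ⥤ AddCommGrpCat.{u}} (φ : A₀ Y ⟶ P) {V W : C} (g : W ⟶ V) (f : V ⟶ X) (hf : Rs Y f)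
    (f' : W ⟶ X) (hf' : Rs Y f') (e : g ≫ f = f') : P.map g.op (val Y P φ f hf) = val Y P φ f' hf' := by
  subst e
  exact (ConcreteCategory.congr_hom (φ.naturality g.op) _).symm

theorem val_ext {P : Cᵒᵖ ⥤ AddCommGrpCat.{u}} {φ φ' : A₀ Y ⟶ P}
    (h : ∀ (V : C) (f : V ⟶ X) (hf : Rs Y f), val Y P φ f hf = val Y P φ' f hf) : φ = φ' := by
  ext V : 2
  refine AddCommGrpCat.hom_ext (FreeAbelianGroup.lift_ext _ _ ?_)
  intro x
  exact h V.unop x.1 x.2

/-- The cochain of a morphism. -/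
noncomputable def toCochain (P : Cᵒᵖ ⥤ AddCommGrpCat.{u}) : (A₀ Y ⟶ P) →+ (CechEdge.cx P Y).X 0 where
  toFun φ := GrothSS.pmk Y P fun a : Fin (0 + 1) → ι => val Y P φ (Cech.obj Y a).hom (mem_hom Y a)
  map_zero' := GrothSS.pext Y fun a => by
    refine (GrothSS.pev_pmk Y P _ a).trans ?_
    exact (map_zero (GrothSS.pev Y P a).hom).symm
  map_add' φ φ' := GrothSS.pext Y fun a => by
    refine (GrothSS.pev_pmk Y P _ a).trans ?_
    refine Eq.trans ?_ (map_add (GrothSS.pev Y P a).hom _ _).symm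
    exact (congrArg₂ (· + ·) (GrothSS.pev_pmk Y P (fun a => val Y P φ _ (mem_hom Y a)) a)
      (GrothSS.pev_pmk Y P (fun a => val Y P φ' _ (mem_hom Y a)) a)).symm

theorem pev_toCochain (P : Cᵒᵖ ⥤ AddCommGrpCat.{u}) (φ : A₀ Y ⟶ P) (a : Fin (0 + 1) → ι) :
    GrothSS.pev Y P a (toCochain Y P φ) = val Y P φ (Cech.obj Y a).hom (mem_hom Y a) :=
  GrothSS.pev_pmk Y P _ a

theorem pev_face (P : Cᵒᵖ ⥤ AddCommGrpCat.{u}) (j : Fin 2) (c : (CechEdge.cx P Y).X 0) (b : Fin 2 → ι) :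
    ∃ g : Cech.obj Y b ⟶ Cech.obj Y (b ∘ j.succAbove),
      (∀ l, g ≫ Pi.π (fun k => Y ((b ∘ j.succAbove) k)) l = Pi.π (fun k => Y (b k)) (j.succAbove l)) ∧
      GrothSS.pev Y P b (CechEdge.face P Y j c) = P.map g.left.op (GrothSS.pev Y P (b ∘ j.succAbove) c) :=
  ⟨((FormalCoproduct.mk ι Y).cech.map (SimplexCategory.δ j).op).φ b,
    fun l => Pi.lift_π (fun l => Pi.π (fun k => Y (b k)) (j.succAbove l)) l,
    ConcreteCategory.congr_hom (Pi.lift_π _ b) c⟩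

theorem d_toCochain (P : Cᵒᵖ ⥤ AddCommGrpCat.{u}) (φ : A₀ Y ⟶ P) :
    (CechEdge.cx P Y).d 0 1 (toCochain Y P φ) = 0 := by
  have hf : ∀ (j : Fin 2) (b : Fin 2 → ι), GrothSS.pev Y P b (CechEdge.face P Y j (toCochain Y P φ)) =
      val Y P φ (Cech.obj Y b).hom (mem_hom Y b) := fun j b => by
    obtain ⟨g, -, hg⟩ := pev_face Y P j (toCochain Y P φ) b
    rw [hg, pev_toCochain]
    exact val_map Y φ g.left _ _ _ _ (Over.w g)
  have e : CechEdge.face P Y 0 (toCochain Y P φ) = CechEdge.face P Y 1 (toCochain Y P φ) :=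
    GrothSS.pext Y fun b => (hf 0 b).trans (hf 1 b).symm
  rw [CechEdge.cx_d_zero_one, Fin.sum_univ_two]
  simp only [Fin.val_zero, Fin.val_one, pow_zero, pow_one, one_smul, neg_smul]
  change CechEdge.face P Y 0 _ + -(CechEdge.face P Y 1 _) = 0
  rw [e, add_neg_cancel]

theorem injective_toCochain (P : Cᵒᵖ ⥤ AddCommGrpCat.{u}) : Function.Injective (toCochain Y P) := by
  intro φ φ' h
  refine val_ext Y fun V f hf => ?_
  obtain ⟨i, g, hg⟩ := (Sieve.mem_ofArrows_iff _ _ f).1 hf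
  let σ : Over.mk f ⟶ Cech.obj Y (fun _ : Fin (0 + 1) => i) := Pi.lift fun _ => Over.homMk g hg.symm
  have h1 := congrArg (GrothSS.pev Y P (fun _ : Fin (0 + 1) => i)) h
  rw [pev_toCochain, pev_toCochain] at h1
  rw [← val_map Y φ σ.left _ (mem_hom Y _) f hf (Over.w σ), ← val_map Y φ' σ.left _ (mem_hom Y _) f hf (Over.w σ),
    h1]

theorem cocycle_eq (P : Cᵒᵖ ⥤ AddCommGrpCat.{u}) (c : (CechEdge.cx P Y).X 0)
    (hc : (CechEdge.cx P Y).d 0 1 c = 0) {W : Over X} (a a' : Fin (0 + 1) → ι)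
    (s : W ⟶ Cech.obj Y a) (s' : W ⟶ Cech.obj Y a') :
    P.map s.left.op (GrothSS.pev Y P a c) = P.map s'.left.op (GrothSS.pev Y P a' c) := by
  let b : Fin 2 → ι := ![a 0, a' 0]
  let hh : W ⟶ Cech.obj Y b := Pi.lift fun k =>
    Fin.cases (motive := fun k => W ⟶ Y (b k)) (s ≫ Pi.π (fun k => Y (a k)) 0)
      (fun l => Fin.cases (motive := fun l => W ⟶ Y (b l.succ)) (s' ≫ Pi.π (fun k => Y (a' k)) 0)
        (fun m => m.elim0) l) k
  have key : ∀ (j : Fin 2) (a₁ : Fin (0 + 1) → ι) (e : b ∘ j.succAbove = a₁) (s₁ : W ⟶ Cech.obj Y a₁),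
      (∀ l, hh ≫ Pi.π (fun k => Y (b k)) (j.succAbove l) =
        s₁ ≫ Pi.π (fun k => Y (a₁ k)) l ≫ eqToHom (congrArg Y (congrFun e l).symm)) →
      P.map hh.left.op (GrothSS.pev Y P b (CechEdge.face P Y j c)) =
        P.map s₁.left.op (GrothSS.pev Y P a₁ c) := by
    intro j a₁ e s₁ hs
    subst e
    obtain ⟨g, hgπ, hg⟩ := pev_face Y P j c b
    rw [hg, ← ConcreteCategory.comp_apply, ← P.map_comp, ← op_comp]
    have : hh ≫ g = s₁ := Pi.hom_ext _ _ fun l => by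
      rw [Category.assoc, hgπ l, hs l, eqToHom_refl, Category.comp_id]
    rw [← this]
    rfl
  have e : CechEdge.face P Y 0 c = CechEdge.face P Y 1 c := by
    rw [CechEdge.cx_d_zero_one, Fin.sum_univ_two] at hc
    simp only [Fin.val_zero, Fin.val_one, pow_zero, pow_one, one_smul, neg_smul] at hc
    exact eq_of_sub_eq_zero ((sub_eq_add_neg _ _).trans hc)
  have e0 : b ∘ (0 : Fin 2).succAbove = a' := funext fun l => by
    obtain rfl : l = (0 : Fin (0 + 1)) := Fin.fin_one_eq_zero l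
    rfl
  have e1 : b ∘ (1 : Fin 2).succAbove = a := funext fun l => by
    obtain rfl : l = (0 : Fin (0 + 1)) := Fin.fin_one_eq_zero l
    rfl
  rw [← key 1 a e1 s (fun l => by
      obtain rfl : l = (0 : Fin (0 + 1)) := Fin.fin_one_eq_zero l
      exact (Pi.lift_π _ _).trans (congrArg (s ≫ ·) (Category.comp_id _).symm)),
    ← key 0 a' e0 s' (fun l => by
      obtain rfl : l = (0 : Fin (0 + 1)) := Fin.fin_one_eq_zero l
      exact (Pi.lift_π _ _).trans (congrArg (s' ≫ ·) (Category.comp_id _).symm)), e]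

theorem exists_of_cocycle (P : Cᵒᵖ ⥤ AddCommGrpCat.{u}) (c : (CechEdge.cx P Y).X 0)
    (hc : (CechEdge.cx P Y).d 0 1 c = 0) : ∃ φ : A₀ Y ⟶ P, toCochain Y P φ = c := by
  classical
  have hex : ∀ {V : C} (f : V ⟶ X), Rs Y f →
      ∃ (a : Fin (0 + 1) → ι), Nonempty (Over.mk f ⟶ Cech.obj Y a) := fun f hf => by
    obtain ⟨i, g, hg⟩ := (Sieve.mem_ofArrows_iff _ _ f).1 hf
    exact ⟨fun _ => i, ⟨Pi.lift fun _ => Over.homMk g hg.symm⟩⟩
  choose a hs using @hex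
  let v : ∀ {V : C} (f : V ⟶ X) (hf : Rs Y f), P.obj (op V) := fun f hf =>
    P.map ((hs f hf).some).left.op (GrothSS.pev Y P (a f hf) c)
  have hv : ∀ {V : C} (f : V ⟶ X) (hf : Rs Y f) (a' : Fin (0 + 1) → ι) (s : Over.mk f ⟶ Cech.obj Y a'),
      v f hf = P.map s.left.op (GrothSS.pev Y P a' c) := fun f hf a' s =>
    cocycle_eq Y P c hc _ _ _ s
  let φ : A₀ Y ⟶ P :=
    { app := fun V => AddCommGrpCat.ofHom
        (FreeAbelianGroup.lift fun x : (Rs Y).functor.obj V => v x.1 x.2)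
      naturality := fun V W g => by
        refine AddCommGrpCat.hom_ext (FreeAbelianGroup.lift_ext _ _ ?_)
        intro x
        change FreeAbelianGroup.lift (fun x : (Rs Y).functor.obj W => v x.1 x.2)
            (FreeAbelianGroup.map ((Rs Y).functor.map g) (FreeAbelianGroup.of x)) =
          P.map g (FreeAbelianGroup.lift (fun x : (Rs Y).functor.obj V => v x.1 x.2) (FreeAbelianGroup.of x))
        rw [FreeAbelianGroup.map_of_apply, FreeAbelianGroup.lift_apply_of, FreeAbelianGroup.lift_apply_of]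
        refine (hv _ _ _ ((Over.homMk g.unop : Over.mk (g.unop ≫ x.1) ⟶ Over.mk x.1) ≫ (hs x.1 x.2).some)).trans ?_
        exact ConcreteCategory.congr_hom (P.map_comp ((hs x.1 x.2).some).left.op g) (GrothSS.pev Y P (a x.1 x.2) c) }
  refine ⟨φ, GrothSS.pext Y fun a' => ?_⟩
  rw [pev_toCochain]
  change FreeAbelianGroup.lift _ (FreeAbelianGroup.of _) = _
  rw [FreeAbelianGroup.lift_apply_of]
  refine (hv _ _ a' (𝟙 (Cech.obj Y a'))).trans ?_
  exact ConcreteCategory.congr_hom (P.map_id (op (Cech.obj Y a').left)) (GrothSS.pev Y P a' c)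

/-- Morphisms as cycles. -/
noncomputable def cyc (P : Cᵒᵖ ⥤ AddCommGrpCat.{u}) :
    AddCommGrpCat.of (A₀ Y ⟶ P) ⟶ (CechEdge.cx P Y).cycles 0 :=
  (CechEdge.cx P Y).liftCycles (AddCommGrpCat.ofHom (toCochain Y P)) 1 (by simp)
    (AddCommGrpCat.hom_ext (AddMonoidHom.ext fun φ => d_toCochain Y P φ))

theorem iCycles_cyc (P : Cᵒᵖ ⥤ AddCommGrpCat.{u}) (φ : A₀ Y ⟶ P) :
    (CechEdge.cx P Y).iCycles 0 (cyc Y P φ) = toCochain Y P φ :=
  ConcreteCategory.congr_hom ((CechEdge.cx P Y).liftCycles_i (k := AddCommGrpCat.ofHom (toCochain Y P))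
    (A := AddCommGrpCat.of (A₀ Y ⟶ P)) 1 (by simp)
    (AddCommGrpCat.hom_ext (AddMonoidHom.ext fun φ => d_toCochain Y P φ))) φ

/-- Morphisms as classes. -/
noncomputable def toCycles (P : Cᵒᵖ ⥤ AddCommGrpCat.{u}) :
    AddCommGrpCat.of (A₀ Y ⟶ P) ⟶ (CechEdge.cx P Y).homology 0 :=
  cyc Y P ≫ (CechEdge.cx P Y).homologyπ 0

theorem bijective_toCycles (P : Cᵒᵖ ⥤ AddCommGrpCat.{u}) : Function.Bijective (toCycles Y P) := by
  let K := CechEdge.cx P Y
  refine (ConcreteCategory.bijective_of_isIso (K.homologyπ 0)).comp ⟨fun φ φ' h => ?_, fun z => ?_⟩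
  · refine injective_toCochain Y P ?_
    exact (iCycles_cyc Y P φ).symm.trans ((congrArg (K.iCycles 0) h).trans (iCycles_cyc Y P φ'))
  · obtain ⟨φ, hφ⟩ := exists_of_cocycle Y P (K.iCycles 0 z)
      (ConcreteCategory.congr_hom (K.iCycles_d 0 1) z)
    exact ⟨φ, (AddCommGrpCat.mono_iff_injective (K.iCycles 0)).1 inferInstance ((iCycles_cyc Y P φ).trans hφ)⟩

theorem toCycles_natural {P Q : Cᵒᵖ ⥤ AddCommGrpCat.{u}} (ψ : P ⟶ Q) (φ : A₀ Y ⟶ P) :
    HomologicalComplex.homologyMap ((GrothSS.cechPsh Y).map ψ) 0 (toCycles Y P φ) = toCycles Y Q (φ ≫ ψ) := by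
  let F : CechEdge.cx P Y ⟶ CechEdge.cx Q Y := (GrothSS.cechPsh Y).map ψ
  refine (ConcreteCategory.congr_hom (HomologicalComplex.homologyπ_naturality F 0) _).trans ?_
  refine congrArg ((CechEdge.cx Q Y).homologyπ 0) ?_
  refine (AddCommGrpCat.mono_iff_injective ((CechEdge.cx Q Y).iCycles 0)).1 inferInstance ?_
  refine (ConcreteCategory.congr_hom (HomologicalComplex.cyclesMap_i F 0) _).trans ?_
  refine (congrArg (F.f 0) (iCycles_cyc Y P φ)).trans ?_
  refine Eq.trans ?_ (iCycles_cyc Y Q (φ ≫ ψ)).symm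
  refine GrothSS.pext Y fun a => ?_
  refine (GrothSS.cech_ev_map Y ψ a _).trans ?_
  refine (congrArg (ψ.app _) (pev_toCochain Y P φ a)).trans (pev_toCochain Y Q (φ ≫ ψ) a).symm

/-- The constant functor at the free presheaf on the sieve. -/
noncomputable abbrev G : C ⥤ (Cᵒᵖ ⥤ AddCommGrpCat.{u}) := (Functor.const C).obj (A₀ Y)

/-- Čech cohomology in degree zero corepresented by the sieve. -/
noncomputable def zeroIso :
    GrothSS.cohomFun (GrothSS.cechPsh Y) 0 ≅ SheafCoh.homPre (G Y) ⋙ (evaluation _ _).obj (op X) :=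
  (NatIso.ofComponents
    (fun P => @asIso _ _ _ _ (toCycles Y P : AddCommGrpCat.of (A₀ Y ⟶ P) ⟶ _)
      ((ConcreteCategory.isIso_iff_bijective _).2 (bijective_toCycles Y P)))
    (fun {P Q} ψ => by
      ext φ
      exact (toCycles_natural Y ψ φ).symm)).symm

theorem nonempty_cechH_iso (P : Cᵒᵖ ⥤ AddCommGrpCat.{u}) (q : ℕ) :
    Nonempty (CohCx.cechH P Y q ≅ AddCommGrpCat.of (CohCx.HK (J := (⊥ : GrothendieckTopology C))
      ⟨(Rs Y).functor, Presheaf.isSheaf_bot _⟩ ⟨P, Presheaf.isSheaf_bot _⟩ q)) := by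
  obtain ⟨e⟩ := GrothSS.nonempty_rightDerived_cech_iso Y P q
  obtain ⟨e'⟩ := SheafCoh.nonempty_HK_bot_addEquiv (C := C) ⟨(Rs Y).functor, Presheaf.isSheaf_bot _⟩
    ⟨P, Presheaf.isSheaf_bot _⟩ q
  have : (GrothSS.cohomFun (GrothSS.cechPsh Y) 0).Additive := inferInstance
  exact ⟨e.symm ≪≫ SheafCoh.rightDerivedPostExactIso (GrothSS.cohomFun (GrothSS.cechPsh Y) 0)
      (SheafCoh.homPre (G Y)) ((evaluation _ _).obj (op X)) (zeroIso Y) P q ≪≫
    ((evaluation _ _).obj (op X)).mapIso (SheafCoh.rightDerivedHomPreIso (G Y) P q) ≪≫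
    (SheafCoh.extPreEquiv (G Y) P q X).toAddCommGrpIso ≪≫
    (AddEquiv.toAddCommGrpIso (X := AddCommGrpCat.of (Abelian.Ext (A₀ Y) P q))
      (Y := AddCommGrpCat.of (CohCx.HK (J := (⊥ : GrothendieckTopology C))
        ⟨(Rs Y).functor, Presheaf.isSheaf_bot _⟩ ⟨P, Presheaf.isSheaf_bot _⟩ q)) e'.symm)⟩

end GrothLib.CechSieve25
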